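import Cfsg.Agent.H667.HM.ConfGrp

/-!
# S5175, T7d: the configuration from rank one linear block data (helper667)

* `stConf : StConf`.
-/

set_option autoImplicit false
set_option linter.unusedSectionVars false

namespace Cfsg.Agent.H667.HM

open Cfsg Cfsg.FusionSystem Cfsg.Agent.H756.HM Cfsg.Agent.H802
open scoped commutatorElement

universe u

section

variable {Ω : Type u} [Group Ω] {S : Subgroup Ω} {F : FusionSystem S} {T : Subgroup Ω} {P : Type u} [Group P]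

/-- the preimage of `O_2(P)` -/
def VV (s : Sit F T P) : Subgroup Ω := ((pCore 2 P).comap s.ι).map T.subtype

theorem mem_VV (s : Sit F T P) {v : Ω} : v ∈ VV s ↔ ∃ h : v ∈ T, s.ι ⟨v, h⟩ ∈ pCore 2 P := by
  constructor
  · rintro ⟨a, ha, rfl⟩
    exact ⟨a.2, ha⟩
  · rintro ⟨h, hv⟩
    exact ⟨⟨v, h⟩, hv, rfl⟩

theorem VV_le (s : Sit F T P) : VV s ≤ T := by
  intro v hv
  exact ((mem_VV s).1 hv).1

theorem core_le_range (s : Sit F T P) : pCore 2 P ≤ s.ι.range := by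
  have := s.fin
  have hf : Fact (Nat.Prime 2) := ⟨Nat.prime_two⟩
  obtain ⟨R, hR⟩ := s.syl
  rw [← hR]
  exact Lib.Cores.pCore_le_sylow R

/-- `V ≃ O_2(P)` -/
noncomputable def jV (s : Sit F T P) : VV s ≃* pCore 2 P :=
  MulEquiv.ofBijective
    (MonoidHom.mk' (fun v : VV s => (⟨s.ι ⟨v, VV_le s v.2⟩, ((mem_VV s).1 v.2).2⟩ : pCore 2 P))
      (fun a b => Subtype.ext (by
        show s.ι ⟨((a * b : VV s) : Ω), _⟩ = s.ι ⟨a, _⟩ * s.ι ⟨b, _⟩
        rw [← map_mul]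
        rfl)))
    (by
      constructor
      · intro a b h
        have h1 : s.ι ⟨a, VV_le s a.2⟩ = s.ι ⟨b, VV_le s b.2⟩ := congrArg Subtype.val h
        exact Subtype.ext (congrArg (Subtype.val : T → Ω) (s.inj h1))
      · intro y
        obtain ⟨t, ht⟩ := core_le_range s y.2
        refine ⟨⟨t, (mem_VV s).2 ⟨t.2, ?_⟩⟩, Subtype.ext ?_⟩
        · rw [show (⟨(t : Ω), t.2⟩ : T) = t from rfl, ht]
          exact y.2
        · exact ht)

theorem jV_apply (s : Sit F T P) (v : VV s) : ((jV s v : pCore 2 P) : P) = s.ι ⟨v, VV_le s v.2⟩ := rfl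

/-- the action of `P` on `V` -/
noncomputable def κ (s : Sit F T P) : P →* MulAut (VV s) :=
  have : (pCore 2 P).Normal := core_normal
  ((MulAut.congr (jV s).symm).toMonoidHom).comp (MulAut.conjNormal (H := pCore 2 P))

theorem κ_apply (s : Sit F T P) (g : P) (v : VV s) :
    ((jV s (κ s g v) : pCore 2 P) : P) = g * (jV s v : P) * g⁻¹ := by
  have hn : (pCore 2 P).Normal := core_normal
  show ((jV s ((jV s).symm (MulAut.conjNormal g (jV s v))) : pCore 2 P) : P) = _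
  rw [MulEquiv.apply_symm_apply]
  rfl

theorem ι_κ (s : Sit F T P) (g : P) (v : VV s) :
    s.ι ⟨κ s g v, VV_le s (κ s g v).2⟩ = g * s.ι ⟨v, VV_le s v.2⟩ * g⁻¹ := κ_apply s g v

/-- elements of `V` are determined by their images -/
theorem ext_ι (s : Sit F T P) {a b : VV s} (h : s.ι ⟨a, VV_le s a.2⟩ = s.ι ⟨b, VV_le s b.2⟩) : a = b :=
  Subtype.ext (congrArg (Subtype.val : T → Ω) (s.inj h))

/-- the automorphism induced by an element of `T` -/
theorem κ_ι (s : Sit F T P) {g : Ω} (hg : g ∈ T) {α : MulAut (VV s)}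
    (h : ∀ x : VV s, ((α x : VV s) : Ω) = g * (x : Ω) * g⁻¹) : κ s (s.ι ⟨g, hg⟩) = α := by
  apply MulEquiv.ext
  intro v
  apply ext_ι
  rw [ι_κ, ← map_inv, ← map_mul, ← map_mul]
  congr 1
  apply Subtype.ext
  show g * (v : Ω) * g⁻¹ = ((α v : VV s) : Ω)
  rw [h]

theorem κ_mem (s : Sit F T P) (g : P) : κ s g ∈ F.autGroup (VV s) := by
  have hVS : VV s ≤ S := (VV_le s).trans s.T_le
  rw [mem_autGroup_iff F hVS]
  exact s.fus (VV s) (VV_le s) g _ (fun a => VV_le s (κ s g a).2) (fun a => ι_κ s g a)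

theorem κ_eq_one_iff (s : Sit F T P) (hcomm : ∀ a ∈ pCore 2 P, ∀ b ∈ pCore 2 P, a * b = b * a) (g : P) :
    κ s g = 1 ↔ g ∈ pCore 2 P := by
  constructor
  · intro h
    apply s.char2
    rw [Subgroup.mem_centralizer_iff]
    intro y hy
    have h1 := κ_apply s g ((jV s).symm ⟨y, hy⟩)
    rw [h, MulAut.one_apply, MulEquiv.apply_symm_apply] at h1
    exact eq_mul_inv_iff_mul_eq.1 h1
  · intro hg
    apply MulEquiv.ext
    intro v
    apply ext_ι
    rw [ι_κ, MulAut.one_apply]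
    have h1 : s.ι ⟨v, VV_le s v.2⟩ ∈ pCore 2 P := (jV s v).2
    rw [hcomm g hg _ h1, mul_inv_cancel_right]

theorem VV_ne (s : Sit F T P) : VV s ≠ ⊥ := by
  intro h
  have h1 : pCore 2 P = ⊥ := by
    rw [eq_bot_iff]
    intro y hy
    have h2 : (jV s).symm ⟨y, hy⟩ = 1 := by
      apply Subtype.ext
      exact Subgroup.mem_bot.1 (h.le ((jV s).symm ⟨y, hy⟩).2)
    have h3 : (⟨y, hy⟩ : pCore 2 P) = 1 := by
      rw [← (jV s).apply_symm_apply ⟨y, hy⟩, h2, map_one]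
    exact Subgroup.mem_bot.2 (congrArg Subtype.val h3)
  apply s.T_ne
  rw [eq_bot_iff]
  intro t ht
  have h2 : s.ι ⟨t, ht⟩ ∈ pCore 2 P := by
    apply s.char2
    rw [h1, Subgroup.mem_centralizer_iff]
    intro y hy
    rw [Subgroup.mem_bot.1 hy, one_mul, mul_one]
  rw [h1, Subgroup.mem_bot, ← map_one s.ι] at h2
  exact Subgroup.mem_bot.2 (congrArg Subtype.val (s.inj h2))

theorem VV_fnorm (s : Sit F T P) : F.IsFullyNormalized (VV s) ∧ normalizerIn S (VV s) = T := by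
  apply s.fnorm (VV s) (VV_le s) (VV_ne s)
  have h1 : ((VV s).subgroupOf T).map s.ι = pCore 2 P := by
    ext y
    constructor
    · rintro ⟨t, ht, rfl⟩
      exact ((mem_VV s).1 (Subgroup.mem_subgroupOf.1 ht)).2
    · intro hy
      obtain ⟨t, ht⟩ := core_le_range s hy
      refine ⟨t, Subgroup.mem_subgroupOf.2 ((mem_VV s).2 ⟨t.2, ?_⟩), ht⟩
      rw [show (⟨(t : Ω), t.2⟩ : T) = t from rfl, ht]
      exact hy
  rw [h1]
  exact core_normal

end

theorem stConf : StConf.{u} := by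
  intro Ω _ S _ hS F hF T P _ s x hxS hxT hxn hx2 ξ hξ d sw hl
  classical
  have hPfin : Finite P := s.fin
  have hTS : T ≤ S := s.T_le
  have hVT := VV_le s
  have hVS : VV s ≤ S := hVT.trans hTS
  have hVfin : Finite (VV s) := finite_of_le hVS
  obtain ⟨hfn, hnor⟩ := VV_fnorm s
  obtain ⟨K, iK, iF, n, hn, hK, hT0, ρ, Ψ, hρs, hρk, hΨs, hΨk, heq⟩ := grp_main s.syl sw hl
  -- conjugation by `x`
  have hconj : ∀ t ∈ T, x * t * x⁻¹ ∈ T := fun t ht => (Subgroup.mem_normalizer_iff.1 hxT t).1 ht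
  have hξ' : ∀ (t : Ω) (ht : t ∈ T), ((ξ ⟨s.ι ⟨t, ht⟩, ⟨⟨t, ht⟩, rfl⟩⟩ : ↥(s.ι.range)) : P) =
      s.ι ⟨x * t * x⁻¹, hconj t ht⟩ := fun t ht => hξ ⟨t, ht⟩ (hconj t ht)
  have hcjT : cj x (VV s) ≤ T := by
    rintro _ ⟨v, hv, rfl⟩
    exact hconj v (hVT hv)
  -- `ι (x v x⁻¹) ∈ T₀`
  have hcjT0 : ∀ g (hg : g ∈ cj x (VV s)), s.ι ⟨g, hcjT hg⟩ ∈ d.T0 := by
    rintro _ ⟨v, hv, rfl⟩
    have hvT := hVT hv
    have h1 : ξ ⟨s.ι ⟨v, hvT⟩, ⟨⟨v, hvT⟩, rfl⟩⟩ ∈ d.T0.subgroupOf s.ι.range := by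
      rw [← sw.T0]
      apply Subgroup.mem_sup_right
      refine ⟨⟨s.ι ⟨v, hvT⟩, ⟨⟨v, hvT⟩, rfl⟩⟩, ?_, rfl⟩
      exact Subgroup.mem_subgroupOf.2 ((mem_VV s).1 hv).2
    have h2 := Subgroup.mem_subgroupOf.1 h1
    rw [hξ' v hvT] at h2
    exact h2
  -- the group `E`
  let L : Subgroup P := LL d.T0
  let κL : L →* MulAut (VV s) := (κ s).comp L.subtype
  have hker : κL.ker = ρ.ker := by
    ext g
    rw [MonoidHom.mem_ker, MonoidHom.mem_ker, hρk]
    exact κ_eq_one_iff s sw.comm g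
  let ρE : κL.range ≃* Matrix.SpecialLinearGroup (Fin 2) K :=
    ((QuotientGroup.quotientKerEquivRange κL).symm.trans (QuotientGroup.quotientMulEquivOfEq hker)).trans
      (QuotientGroup.quotientKerEquivOfSurjective ρ hρs)
  have hρE : ∀ l : L, ρE ⟨κL l, ⟨l, rfl⟩⟩ = ρ l := by
    intro l
    have h1 : (QuotientGroup.quotientKerEquivRange κL).symm ⟨κL l, ⟨l, rfl⟩⟩ = QuotientGroup.mk l := by
      rw [MulEquiv.symm_apply_eq]
      rfl
    show (QuotientGroup.quotientKerEquivOfSurjective ρ hρs) ((QuotientGroup.quotientMulEquivOfEq hker)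
      ((QuotientGroup.quotientKerEquivRange κL).symm ⟨κL l, ⟨l, rfl⟩⟩)) = ρ l
    rw [h1]
    rfl
  let ψV : VV s →* Multiplicative (Fin 2 → K) := Ψ.comp (jV s).toMonoidHom
  -- the fixed points
  have hfix : ∀ v : VV s, (v : Ω) ∈ fixS (VV s) κL.range ↔ ∀ l ∈ L, l * (jV s v : P) = (jV s v : P) * l := by
    intro v
    have h0 : (v : Ω) ∈ fixS (VV s) κL.range ↔ ∀ e ∈ κL.range, e v = v := by
      constructor
      · rintro ⟨w, hw, hwv⟩
        have : w = v := Subtype.ext hwv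
        rw [this] at hw
        exact hw
      · intro h
        exact ⟨v, h, rfl⟩
    rw [h0]
    constructor
    · intro h l hl
      have h1 := h (κL ⟨l, hl⟩) ⟨⟨l, hl⟩, rfl⟩
      have h2 := κ_apply s l v
      have h3 : κ s l v = v := h1
      rw [h3] at h2
      exact eq_mul_inv_iff_mul_eq.1 h2 |>.symm
    · rintro h _ ⟨l, rfl⟩
      apply (jV s).injective
      apply Subtype.ext
      show ((jV s (κ s l v) : pCore 2 P) : P) = _
      rw [κ_apply, h l l.2, mul_inv_cancel_right]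
  -- `Aut_{V^x}(V)` is the image of `T₀`
  have hAut : autInducedBy (cj x (VV s)) (VV s) = d.T0.map (κ s) := by
    apply le_antisymm
    · intro α hα
      obtain ⟨g, hg, h⟩ := (mem_autInducedBy_iff _ _ α).1 hα
      exact ⟨_, hcjT0 g hg, κ_ι s (hcjT hg) h⟩
    · have h1 : d.T0.subgroupOf s.ι.range ≤
          ((autInducedBy (cj x (VV s)) (VV s)).comap (κ s)).subgroupOf s.ι.range := by
        rw [← sw.T0, sup_le_iff]
        constructor
        · intro y hy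
          rw [Subgroup.mem_subgroupOf, Subgroup.mem_comap,
            (κ_eq_one_iff s sw.comm _).2 (Subgroup.mem_subgroupOf.1 hy)]
          exact one_mem _
        · rintro _ ⟨y, hy, rfl⟩
          obtain ⟨_, ⟨t, rfl⟩⟩ := y
          have hyQ : s.ι t ∈ pCore 2 P := Subgroup.mem_subgroupOf.1 hy
          have htV : (t : Ω) ∈ VV s := (mem_VV s).2 ⟨t.2, hyQ⟩
          rw [Subgroup.mem_subgroupOf, Subgroup.mem_comap, mem_autInducedBy_iff]
          refine ⟨x * t * x⁻¹, ⟨t, htV, rfl⟩, ?_⟩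
          intro v
          have e1 : ((ξ.toMonoidHom ⟨s.ι t, ⟨t, rfl⟩⟩ : ↥(s.ι.range)) : P) =
              s.ι ⟨x * t * x⁻¹, hconj t t.2⟩ := hξ' t t.2
          rw [e1]
          have e2 := ι_κ s (s.ι ⟨x * t * x⁻¹, hconj t t.2⟩) v
          rw [← map_inv, ← map_mul, ← map_mul] at e2
          have e3 := congrArg (Subtype.val : T → Ω) (s.inj e2)
          exact e3
      rintro _ ⟨a, ha, rfl⟩
      have h2 := h1 (x := ⟨a, d.T0_le ha⟩) (Subgroup.mem_subgroupOf.2 ha)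
      exact Subgroup.mem_comap.1 (Subgroup.mem_subgroupOf.1 h2)
  refine ⟨K, iK, iF, VV s, ⟨{
    n := n
    hn := hn
    hK := hK
    V_le := hVS
    fn := hfn
    nor := hnor
    cent := ?_
    el := ?_
    x_mem := hxS
    x_nor := hxT
    x_not := hxn
    x_sq := hx2
    E := κL.range
    E_le := ?_
    ρ := ρE
    ψ := ψV
    ψ_surj := hΨs.comp (jV s).surjective
    ψ_ker := ?_
    ψ_eq := ?_
    A_le := ?_
    A_card := ?_
    T_nor := ?_
    DD := ?_ }⟩⟩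
  · -- cent
    apply le_antisymm
    · rintro y ⟨hyS, hyC⟩
      have hyN : y ∈ Subgroup.normalizer (VV s : Set Ω) := by
        rw [Subgroup.mem_normalizer_iff]
        intro v
        have hc : ∀ v ∈ VV s, v * y = y * v := fun v hv => Subgroup.mem_centralizer_iff.1 hyC v hv
        constructor
        · intro hv
          rw [← hc v hv, mul_inv_cancel_right]
          exact hv
        · intro hv
          have h1 := hc _ hv
          have h2 : v = y * v * y⁻¹ := by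
            have h3 : y * v * y⁻¹ * y = y * (y * v * y⁻¹) := h1
            rw [inv_mul_cancel_right] at h3
            exact mul_left_cancel h3
          rw [h2]
          exact hv
      have hyT : y ∈ T := by rw [← hnor]; exact ⟨hyS, hyN⟩
      rw [mem_VV]
      refine ⟨hyT, ?_⟩
      rw [← sw.CT]
      refine ⟨⟨⟨y, hyT⟩, rfl⟩, ?_⟩
      refine Subgroup.mem_centralizer_iff.2 ?_
      intro z hz
      obtain ⟨t, ht⟩ := core_le_range s hz
      have htV : (t : Ω) ∈ VV s := (mem_VV s).2 ⟨t.2, by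
        rw [show (⟨(t : Ω), t.2⟩ : T) = t from rfl, ht]; exact hz⟩
      have h1 := Subgroup.mem_centralizer_iff.1 hyC t htV
      rw [← ht, ← map_mul, ← map_mul]
      congr 1
      exact Subtype.ext h1
    · intro y hy
      refine ⟨hVS hy, ?_⟩
      refine Subgroup.mem_centralizer_iff.2 ?_
      intro v hv
      have h1 : (jV s ⟨v, hv⟩) * (jV s ⟨y, hy⟩) = (jV s ⟨y, hy⟩) * (jV s ⟨v, hv⟩) :=
        Subtype.ext (sw.comm _ (jV s ⟨v, hv⟩).2 _ (jV s ⟨y, hy⟩).2)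
      rw [← map_mul, ← map_mul] at h1
      exact congrArg Subtype.val ((jV s).injective h1)
  · -- el
    intro v hv
    have h1 : (jV s ⟨v, hv⟩) ^ 2 = 1 := Subtype.ext (sw.sq _ (jV s ⟨v, hv⟩).2)
    rw [← map_pow, ← map_one (jV s)] at h1
    exact congrArg Subtype.val ((jV s).injective h1)
  · -- E_le
    rintro _ ⟨l, rfl⟩
    exact κ_mem s l
  · -- ψ_ker
    intro v
    rw [hfix]
    exact hΨk (jV s v)
  · -- ψ_eq
    rintro ⟨_, ⟨l, rfl⟩⟩ v
    rw [hρE]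
    exact heq l (jV s v) (jV s (κ s l v)) (κ_apply s l v)
  · -- A_le
    rw [hAut]
    rintro _ ⟨a, ha, rfl⟩
    exact ⟨⟨a, Subgroup.mem_sup_right ha⟩, rfl⟩
  · -- A_card
    rw [hAut]
    let f : d.T0 →* MulAut (VV s) := (κ s).comp d.T0.subtype
    have h1 : d.T0.map (κ s) = f.range := by rw [MonoidHom.range_comp, Subgroup.range_subtype]
    have h2 : f.ker = (pCore 2 P).subgroupOf d.T0 := by
      ext a
      rw [MonoidHom.mem_ker, Subgroup.mem_subgroupOf]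
      exact κ_eq_one_iff s sw.comm a
    have h3 : Nat.card d.T0 = Nat.card f.ker * Nat.card f.range := by
      rw [← Nat.card_congr (QuotientGroup.quotientKerEquivRange f).toEquiv, mul_comm]
      exact (Subgroup.card_eq_card_quotient_mul_card_subgroup _)
    rw [h2, Nat.card_congr (Subgroup.subgroupOfEquivOfLe d.Q_le_T0).toEquiv, hT0] at h3
    rw [h1]
    exact (Nat.eq_of_mul_eq_mul_left Nat.card_pos h3).symm
  · -- T_nor
    rintro t ht _ ⟨l, rfl⟩
    obtain ⟨g, hg, h⟩ := (mem_autInducedBy_iff _ _ t).1 ht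
    rw [← κ_ι s hg h]
    refine ⟨⟨s.ι ⟨g, hg⟩ * l * (s.ι ⟨g, hg⟩)⁻¹, L_conj sw ⟨_, rfl⟩ l.2⟩, ?_⟩
    show κ s (s.ι ⟨g, hg⟩ * l * (s.ι ⟨g, hg⟩)⁻¹) = _
    rw [map_mul, map_mul, map_inv]
    rfl
  · -- DD
    rw [eq_bot_iff]
    rintro y ⟨hy1, hy2⟩
    obtain ⟨v, hv, rfl⟩ := hy1
    obtain ⟨w, hw, hwv⟩ := hy2
    obtain ⟨w, hw', rfl⟩ := hw
    have hR : ∀ u : VV s, (u : Ω) ∈ fixS (VV s) κL.range →
        (jV s u : P) ∈ pCore 2 P ⊓ Subgroup.centralizer (pResidual 2 P : Set P) := by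
      intro u hu
      refine ⟨(jV s u).2, ?_⟩
      refine Subgroup.mem_centralizer_iff.2 ?_
      intro r hr
      exact (hfix u).1 hu r (Subgroup.mem_sup_left hr)
    have h1 := hR v ⟨v, hv, rfl⟩
    have h2 := hR w ⟨w, hw', rfl⟩
    have hvT : (v : Ω) ∈ T := hVT v.2
    have hwT : (w : Ω) ∈ T := hVT w.2
    have hmem : (⟨s.ι ⟨v, hvT⟩, ⟨⟨v, hvT⟩, rfl⟩⟩ : ↥(s.ι.range)) ∈
        (pCore 2 P ⊓ Subgroup.centralizer (pResidual 2 P : Set P)).subgroupOf s.ι.range ⊓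
          ((pCore 2 P ⊓ Subgroup.centralizer (pResidual 2 P : Set P)).subgroupOf s.ι.range).map
            ξ.toMonoidHom := by
      refine ⟨Subgroup.mem_subgroupOf.2 h1, ⟨⟨s.ι ⟨w, hwT⟩, ⟨⟨w, hwT⟩, rfl⟩⟩,
        Subgroup.mem_subgroupOf.2 h2, ?_⟩⟩
      apply Subtype.ext
      have h3 : ((ξ ⟨s.ι ⟨w, hwT⟩, ⟨⟨w, hwT⟩, rfl⟩⟩ : ↥(s.ι.range)) : P) =
        s.ι ⟨x * w * x⁻¹, hconj w hwT⟩ := hξ' w hwT
      show ((ξ ⟨s.ι ⟨w, hwT⟩, ⟨⟨w, hwT⟩, rfl⟩⟩ : ↥(s.ι.range)) : P) = s.ι ⟨v, hvT⟩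
      rw [h3]
      congr 1
      exact Subtype.ext hwv
    rw [sw.DD, Subgroup.mem_bot] at hmem
    have h4 : s.ι ⟨v, hvT⟩ = s.ι 1 := by
      rw [map_one]
      exact congrArg Subtype.val hmem
    exact Subgroup.mem_bot.2 (congrArg (Subtype.val : T → Ω) (s.inj h4))

end Cfsg.Agent.H667.HM
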