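import Cfsg.Agent.H756.HM.Stmts
import Cfsg.Agent.LieClassical.SLTwoUnipotent
import Cfsg.Agent.Transfer.Residual
import Cfsg.Agent.Lib.Cores

/-!
# S5175, T7d: the configuration from rank one linear block data, group side (helper667)
-/

set_option autoImplicit false
set_option linter.unusedSectionVars false

namespace Cfsg.Agent.H667.HM

open Cfsg Cfsg.FusionSystem Cfsg.Agent.H756.HM
open scoped commutatorElement

universe u

/-! ### `SL₂` in characteristic 2 -/

section SL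
variable {K : Type} [Field K] [Fintype K]

theorem sl_sylow [CharP K 2] (U : Subgroup (Matrix.SpecialLinearGroup (Fin 2) K)) (hU : IsPGroup 2 U)
    (hi : ¬ 2 ∣ U.index) :
    Nat.card U = Fintype.card K ∧ ∀ a ∈ U, ∀ b ∈ U, a * b = b * a := by
  classical
  have hf : Fact (Nat.Prime 2) := ⟨Nat.prime_two⟩
  let S : Sylow 2 (Matrix.SpecialLinearGroup (Fin 2) K) := hU.toSylow hi
  obtain ⟨g, hg⟩ := LieClassical.SLTwoUnipotent.exists_smul_upperUnipSylowSL_eq 2 S
  constructor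
  · have h1 : Nat.card U =
        Nat.card ((LieClassical.SLTwoUnipotent.upperUnipSylowSL K 2 :
          Sylow 2 (Matrix.SpecialLinearGroup (Fin 2) K)) : Subgroup (Matrix.SpecialLinearGroup (Fin 2) K)) := by
      rw [show U = (S : Subgroup _) from rfl, Sylow.card_eq_multiplicity, Sylow.card_eq_multiplicity]
    rw [h1, LieClassical.SLTwoUnipotent.coe_upperUnipSylowSL, LieClassical.SLTwoUnipotent.card_upperUnipSL,
      Nat.card_eq_fintype_card]
  · intro a ha b hb
    have ha' : a ∈ g • (LieClassical.SLTwoUnipotent.upperUnipSylowSL K 2) := by rw [hg]; exact ha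
    have hb' : b ∈ g • (LieClassical.SLTwoUnipotent.upperUnipSylowSL K 2) := by rw [hg]; exact hb
    rw [LieClassical.SLTwoUnipotent.mem_smul_upperUnipSylowSL_iff] at ha' hb'
    rw [LieClassical.SLTwoUnipotent.mem_upperUnipSL_iff_exists] at ha' hb'
    obtain ⟨x, hx⟩ := ha'
    obtain ⟨y, hy⟩ := hb'
    have hc : (g⁻¹ * a * g) * (g⁻¹ * b * g) = (g⁻¹ * b * g) * (g⁻¹ * a * g) := by
      rw [hx, hy, ← LieClassical.SLTwoUnipotent.u_add, ← LieClassical.SLTwoUnipotent.u_add, add_comm]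
    have h2 : g⁻¹ * (a * b) * g = g⁻¹ * (b * a) * g := by
      calc g⁻¹ * (a * b) * g = (g⁻¹ * a * g) * (g⁻¹ * b * g) := by group
        _ = (g⁻¹ * b * g) * (g⁻¹ * a * g) := hc
        _ = g⁻¹ * (b * a) * g := by group
    exact mul_left_cancel (mul_right_cancel h2)

/-- the fixed space of a nontrivial element has at most `|K|` elements -/
theorem card_fixed_le (g : Matrix.SpecialLinearGroup (Fin 2) K) (hg : g ≠ 1) :
    Nat.card {v : Fin 2 → K // (g : Matrix (Fin 2) (Fin 2) K).mulVec v = v} ≤ Fintype.card K := by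
  classical
  let N : Submodule K (Fin 2 → K) := LinearMap.ker ((g : Matrix (Fin 2) (Fin 2) K).mulVecLin - LinearMap.id)
  have hmem : ∀ v : Fin 2 → K, v ∈ N ↔ (g : Matrix (Fin 2) (Fin 2) K).mulVec v = v := by
    intro v
    rw [LinearMap.mem_ker, LinearMap.sub_apply, sub_eq_zero]
    rfl
  have hN : N ≠ ⊤ := by
    intro h
    apply hg
    apply Subtype.ext
    apply Matrix.mulVec_injective
    funext v
    have h1 := (hmem v).1 (by rw [h]; trivial)
    rw [h1]
    simp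
  have hlt : Module.finrank K N < 2 := by
    have := Submodule.finrank_lt (K := K) (V := Fin 2 → K) (s := N) hN
    simpa using this
  have hc : Nat.card N = Fintype.card K ^ Module.finrank K N := by
    rw [Nat.card_eq_fintype_card, Module.card_eq_pow_finrank (K := K)]
  have he : Nat.card {v : Fin 2 → K // (g : Matrix (Fin 2) (Fin 2) K).mulVec v = v} = Nat.card N :=
    Nat.card_congr (Equiv.subtypeEquivRight fun v => (hmem v).symm)
  rw [he, hc]
  calc Fintype.card K ^ Module.finrank K N ≤ Fintype.card K ^ 1 :=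
        Nat.pow_le_pow_right Fintype.card_pos (by omega)
    _ = Fintype.card K := pow_one _

end SL

/-! ### The group side -/

section Grp

variable {P : Type u} [Group P]

/-- `O²(P) T₀` -/
abbrev LL (T0 : Subgroup P) : Subgroup P := pResidual 2 P ⊔ T0

theorem core_normal : (pCore 2 P).Normal := by
  have : Fact (Nat.Prime 2) := ⟨Nat.prime_two⟩
  exact Lib.Cores.pCore_normal 2

theorem T0_conj {T : Subgroup P} {ξ : MulAut T} {d : BD T} (sw : Swap T ξ d) {t : P} (ht : t ∈ T) {a : P}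
    (ha : a ∈ d.T0) : t * a * t⁻¹ ∈ d.T0 := by
  have hQn : (pCore 2 P).Normal := core_normal
  have h1 : ((pCore 2 P).subgroupOf T).Normal := inferInstance
  have h2 : (((pCore 2 P).subgroupOf T).map ξ.toMonoidHom).Normal :=
    h1.map _ ξ.surjective
  have h3 : (d.T0.subgroupOf T).Normal := by
    rw [← sw.T0]
    infer_instance
  have h4 := h3.conj_mem ⟨a, d.T0_le ha⟩ (Subgroup.mem_subgroupOf.2 ha) ⟨t, ht⟩
  exact Subgroup.mem_subgroupOf.1 h4

theorem L_conj {T : Subgroup P} {ξ : MulAut T} {d : BD T} (sw : Swap T ξ d) {t : P} (ht : t ∈ T) {a : P}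
    (ha : a ∈ LL d.T0) : t * a * t⁻¹ ∈ LL d.T0 := by
  have hR : (pResidual 2 P).Normal := Transfer.Residual.pResidual_normal 2
  rw [Subgroup.mem_sup_of_normal_left] at ha
  obtain ⟨r, hr, b, hb, rfl⟩ := ha
  have e : t * (r * b) * t⁻¹ = (t * r * t⁻¹) * (t * b * t⁻¹) := by group
  rw [e]
  exact mul_mem (Subgroup.mem_sup_left (hR.conj_mem r hr t)) (Subgroup.mem_sup_right (T0_conj sw ht hb))

theorem L_normal [Finite P] {T : Subgroup P} (hT : ∃ R : Sylow 2 P, (R : Subgroup P) = T) {ξ : MulAut T}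
    {d : BD T} (sw : Swap T ξ d) : (LL d.T0).Normal := by
  have hf : Fact (Nat.Prime 2) := ⟨Nat.prime_two⟩
  obtain ⟨R, hR⟩ := hT
  rw [← Subgroup.normalizer_eq_top_iff, eq_top_iff, ← Transfer.Residual.pResidual_sup_sylow R, hR, sup_le_iff]
  constructor
  · exact le_trans le_sup_left Subgroup.le_normalizer
  · intro t ht
    rw [Subgroup.mem_normalizer_iff]
    intro a
    refine ⟨fun ha => L_conj sw ht ha, fun ha => ?_⟩
    have := L_conj sw (inv_mem ht) ha
    simpa [mul_assoc] using this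

theorem card_mul_relIndex' {A B : Subgroup P} (h : A ≤ B) : Nat.card A * A.relIndex B = Nat.card B := by
  rw [← Subgroup.relIndex_bot_left A, ← Subgroup.relIndex_bot_left B]
  exact Subgroup.relIndex_mul_relIndex _ _ _ bot_le h

/-- `|H N| |H ∩ N| = |H| |N|` -/
theorem card_sup_mul_inf [Finite P] {H N : Subgroup P} (hN : N.Normal) :
    Nat.card (H ⊔ N : Subgroup P) * Nat.card (H ⊓ N : Subgroup P) = Nat.card H * Nat.card N := by
  have h1 : N.relIndex (H ⊔ N) = N.relIndex H := Subgroup.relIndex_sup_right H N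
  have h2 := card_mul_relIndex' (le_sup_right : N ≤ H ⊔ N)
  have h3 := card_mul_relIndex' (inf_le_left : H ⊓ N ≤ H)
  rw [Subgroup.inf_relIndex_left] at h3
  rw [← h2, h1, ← h3]
  ring

/-- a Sylow subgroup of `P` intersects the normal subgroup `N` in a subgroup of odd index -/
theorem not_dvd_relIndex [Finite P] {T N : Subgroup P} (hT : ∃ R : Sylow 2 P, (R : Subgroup P) = T)
    (hN : N.Normal) : ¬ 2 ∣ (T ⊓ N).relIndex N := by
  have hf : Fact (Nat.Prime 2) := ⟨Nat.prime_two⟩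
  obtain ⟨R, hR⟩ := hT
  rw [Subgroup.inf_relIndex_right]
  intro h
  apply R.not_dvd_index
  rw [hR]
  have h1 : T.relIndex N = T.relIndex (T ⊔ N) := by
    have h2 := card_sup_mul_inf (H := T) hN
    have h3 := card_mul_relIndex' (inf_le_right : T ⊓ N ≤ N)
    rw [Subgroup.inf_relIndex_right] at h3
    have h4 := card_mul_relIndex' (le_sup_left : T ≤ T ⊔ N)
    rw [← h3, ← h4] at h2
    have h5 : 0 < Nat.card T := Nat.card_pos
    have h6 : 0 < Nat.card (T ⊓ N : Subgroup P) := Nat.card_pos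
    have h7 : Nat.card T * Nat.card (T ⊓ N : Subgroup P) * T.relIndex (T ⊔ N) =
        Nat.card T * Nat.card (T ⊓ N : Subgroup P) * T.relIndex N := by
      calc _ = Nat.card T * T.relIndex (T ⊔ N) * Nat.card (T ⊓ N : Subgroup P) := by ring
        _ = _ := by rw [h2]; ring
    exact (Nat.eq_of_mul_eq_mul_left (Nat.mul_pos h5 h6) h7).symm
  rw [h1] at h
  exact h.trans (Subgroup.relIndex_dvd_index_of_le le_sup_left)

/-! #### `T₀` is a Sylow 2-subgroup of `L` -/

section Rho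
variable [Finite P] {T : Subgroup P} {ξ : MulAut T} {d : BD T} {K : Type} [Field K] [Fintype K]
  {ρ : ↥(LL d.T0) →* Matrix.SpecialLinearGroup (Fin 2) K}

theorem core_le_L (d : BD T) : pCore 2 P ≤ LL d.T0 := d.Q_le_T0.trans le_sup_right

theorem ker_eq (hk : ∀ g, ρ g = 1 ↔ (g : P) ∈ pCore 2 P) : ρ.ker = (pCore 2 P).subgroupOf (LL d.T0) := by
  ext g
  rw [MonoidHom.mem_ker, hk, Subgroup.mem_subgroupOf]

theorem inf_image [CharP K 2] (hT : ∃ R : Sylow 2 P, (R : Subgroup P) = T) (sw : Swap T ξ d)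
    (hs : Function.Surjective ρ) (hk : ∀ g, ρ g = 1 ↔ (g : P) ∈ pCore 2 P) :
    Nat.card ((T.subgroupOf (LL d.T0)).map ρ) = Fintype.card K ∧
      ∀ a ∈ (T.subgroupOf (LL d.T0)).map ρ, ∀ b ∈ (T.subgroupOf (LL d.T0)).map ρ, a * b = b * a := by
  apply sl_sylow
  · obtain ⟨R, hR⟩ := hT
    have h1 : IsPGroup 2 T := hR ▸ R.2
    exact (h1.comap_subtype (K := LL d.T0)).map ρ
  · have h1 : ρ.ker ≤ T.subgroupOf (LL d.T0) := by
      rw [ker_eq hk]
      exact Subgroup.comap_mono (d.Q_le_T0.trans d.T0_le)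
    rw [Subgroup.index_map_eq _ hs h1]
    have h2 := not_dvd_relIndex hT (L_normal hT sw)
    rwa [Subgroup.inf_relIndex_right] at h2

theorem inf_le_T0 [CharP K 2] (hT : ∃ R : Sylow 2 P, (R : Subgroup P) = T) (sw : Swap T ξ d)
    (hs : Function.Surjective ρ) (hk : ∀ g, ρ g = 1 ↔ (g : P) ∈ pCore 2 P) : T ⊓ LL d.T0 ≤ d.T0 := by
  rintro t ⟨htT, htL⟩
  apply d.cent t htT
  intro a ha
  have haL : a ∈ LL d.T0 := Subgroup.mem_sup_right ha
  obtain ⟨-, hc⟩ := inf_image hT sw hs hk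
  have h1 := hc (ρ ⟨t, htL⟩) ⟨⟨t, htL⟩, Subgroup.mem_subgroupOf.2 htT, rfl⟩ (ρ ⟨a, haL⟩)
    ⟨⟨a, haL⟩, Subgroup.mem_subgroupOf.2 (d.T0_le ha), rfl⟩
  have h2 : ρ ⁅(⟨t, htL⟩ : LL d.T0), ⟨a, haL⟩⁆ = 1 := by
    rw [map_commutatorElement, commutatorElement_eq_one_iff_mul_comm]
    exact h1
  exact (hk _).1 h2

theorem card_T0 [CharP K 2] (hT : ∃ R : Sylow 2 P, (R : Subgroup P) = T) (sw : Swap T ξ d)
    (hs : Function.Surjective ρ) (hk : ∀ g, ρ g = 1 ↔ (g : P) ∈ pCore 2 P) :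
    Nat.card d.T0 = Nat.card (pCore 2 P) * Fintype.card K := by
  have e : T.subgroupOf (LL d.T0) = d.T0.subgroupOf (LL d.T0) := by
    ext g
    rw [Subgroup.mem_subgroupOf, Subgroup.mem_subgroupOf]
    exact ⟨fun h => inf_le_T0 hT sw hs hk ⟨h, g.2⟩, fun h => d.T0_le h⟩
  obtain ⟨h1, -⟩ := inf_image hT sw hs hk
  rw [e] at h1
  let f : d.T0 →* Matrix.SpecialLinearGroup (Fin 2) K := ρ.comp (Subgroup.inclusion le_sup_right)
  have hr : f.range = (d.T0.subgroupOf (LL d.T0)).map ρ := by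
    ext y
    constructor
    · rintro ⟨a, rfl⟩
      exact ⟨⟨a, Subgroup.mem_sup_right a.2⟩, Subgroup.mem_subgroupOf.2 a.2, rfl⟩
    · rintro ⟨a, ha, rfl⟩
      exact ⟨⟨a, Subgroup.mem_subgroupOf.1 ha⟩, rfl⟩
  have hk' : f.ker = (pCore 2 P).subgroupOf d.T0 := by
    ext a
    rw [MonoidHom.mem_ker, Subgroup.mem_subgroupOf]
    exact hk _
  have h2 : Nat.card d.T0 = Nat.card f.ker * Nat.card f.range := by
    rw [← Nat.card_congr (QuotientGroup.quotientKerEquivRange f).toEquiv, mul_comm]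
    exact (Subgroup.card_eq_card_quotient_mul_card_subgroup _)
  rw [h2, hr, h1, hk', Nat.card_congr (Subgroup.subgroupOfEquivOfLe d.Q_le_T0).toEquiv]

end Rho

/-! #### The intersection `Z = Q ∩ Q^ξ` -/

/-- `Q ∩ Q^ξ` -/
def ZZ (T : Subgroup P) (ξ : MulAut T) : Subgroup P :=
  ((pCore 2 P).subgroupOf T ⊓ ((pCore 2 P).subgroupOf T).map ξ.toMonoidHom).map T.subtype

section ZZ
variable [Finite P] {T : Subgroup P} {ξ : MulAut T} {d : BD T}

theorem ZZ_le (T : Subgroup P) (ξ : MulAut T) : ZZ T ξ ≤ pCore 2 P := by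
  rintro _ ⟨z, hz, rfl⟩
  exact Subgroup.mem_subgroupOf.1 hz.1

theorem ZZ_cent (sw : Swap T ξ d) {z : P} (hz : z ∈ ZZ T ξ) {a : P} (ha : a ∈ d.T0) : a * z = z * a := by
  obtain ⟨z, ⟨hz1, hz2⟩, rfl⟩ := hz
  have h1 : (⟨a, d.T0_le ha⟩ : T) ∈ Subgroup.centralizer {z} := by
    have h2 : (pCore 2 P).subgroupOf T ⊔ ((pCore 2 P).subgroupOf T).map ξ.toMonoidHom ≤
        Subgroup.centralizer {z} := by
      rw [sup_le_iff]
      constructor
      · intro b hb
        rw [Subgroup.mem_centralizer_singleton_iff]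
        exact Subtype.ext (sw.comm _ (Subgroup.mem_subgroupOf.1 hb) _ (Subgroup.mem_subgroupOf.1 hz1))
      · rintro _ ⟨b, hb, rfl⟩
        obtain ⟨c, hc, rfl⟩ := hz2
        rw [Subgroup.mem_centralizer_singleton_iff]
        show ξ b * ξ c = ξ c * ξ b
        rw [← map_mul, ← map_mul]
        congr 1
        exact Subtype.ext (sw.comm _ (Subgroup.mem_subgroupOf.1 hb) _ (Subgroup.mem_subgroupOf.1 hc))
    rw [sw.T0] at h2
    exact h2 (Subgroup.mem_subgroupOf.2 ha)
  rw [Subgroup.mem_centralizer_singleton_iff] at h1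
  exact congrArg Subtype.val h1

/-- `|Q|² = |Q ∩ Q^ξ| |T₀|` -/
theorem card_ZZ (sw : Swap T ξ d) :
    Nat.card d.T0 * Nat.card (ZZ T ξ) = Nat.card (pCore 2 P) * Nat.card (pCore 2 P) := by
  have hQn : (pCore 2 P).Normal := core_normal
  have hQT : pCore 2 P ≤ T := d.Q_le_T0.trans d.T0_le
  have h1 : ((pCore 2 P).subgroupOf T).Normal := inferInstance
  have h2 : (((pCore 2 P).subgroupOf T).map ξ.toMonoidHom).Normal := h1.map _ ξ.surjective
  have h3 := card_sup_mul_inf (H := (pCore 2 P).subgroupOf T) h2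
  rw [sw.T0, Nat.card_congr (Subgroup.subgroupOfEquivOfLe d.T0_le).toEquiv,
    Nat.card_congr (Subgroup.subgroupOfEquivOfLe hQT).toEquiv] at h3
  have h4 : Nat.card (((pCore 2 P).subgroupOf T).map ξ.toMonoidHom) = Nat.card (pCore 2 P) := by
    rw [← Nat.card_congr (((pCore 2 P).subgroupOf T).equivMapOfInjective _ ξ.injective).toEquiv,
      Nat.card_congr (Subgroup.subgroupOfEquivOfLe hQT).toEquiv]
  rw [h4] at h3
  rw [← h3, ZZ, ← Nat.card_congr ((_ : Subgroup T).equivMapOfInjective _ T.subtype_injective).toEquiv]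

end ZZ

/-! #### `Q = W Z` and `C_W(O²(P)) ≤ C(T₀)` -/

section WZ
variable [Finite P] {T : Subgroup P} {ξ : MulAut T} {d : BD T} {K : Type} [Field K] [Fintype K]
  {ρ : ↥(LL d.T0) →* Matrix.SpecialLinearGroup (Fin 2) K} {ψ : ↥d.W →* Multiplicative (Fin 2 → K)}

/-- the two facts from counting -/
theorem count (sw : Swap T ξ d)
    (hT0 : Nat.card d.T0 = Nat.card (pCore 2 P) * Fintype.card K)
    (hk : ∀ g, ρ g = 1 ↔ (g : P) ∈ pCore 2 P) (hψ : Function.Surjective ψ)
    (hψk : ∀ w : d.W, ψ w = 1 ↔ (w : P) ∈ Subgroup.centralizer (pResidual 2 P : Set P))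
    (heq : ∀ (e : ↥(LL d.T0)) (w w' : ↥d.W), (w' : P) = (e : P) * (w : P) * (e : P)⁻¹ →
        Multiplicative.toAdd (ψ w') =
          ((ρ e : Matrix.SpecialLinearGroup (Fin 2) K) : Matrix (Fin 2) (Fin 2) K).mulVec
            (Multiplicative.toAdd (ψ w))) :
    d.W ⊔ ZZ T ξ = pCore 2 P ∧
      ∀ w ∈ d.W, w ∈ Subgroup.centralizer (pResidual 2 P : Set P) → ∀ a ∈ d.T0, a * w = w * a := by
  classical
  have hQn : (pCore 2 P).Normal := core_normal
  have hWn : d.W.Normal := d.W_normal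
  have hqpos : 0 < Fintype.card K := Fintype.card_pos
  -- the order of `Z`
  have hQpos : 0 < Nat.card (pCore 2 P) := Nat.card_pos
  have hZ : Nat.card (pCore 2 P) = Fintype.card K * Nat.card (ZZ T ξ) := by
    have h1 := card_ZZ sw
    rw [hT0] at h1
    have h2 : Nat.card (pCore 2 P) * (Fintype.card K * Nat.card (ZZ T ξ)) =
        Nat.card (pCore 2 P) * Nat.card (pCore 2 P) := by rw [← h1]; ring
    exact (Nat.eq_of_mul_eq_mul_left hQpos h2).symm
  -- the subgroups of `W`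
  let C : Subgroup d.W := ψ.ker
  let F : Subgroup d.W := (Subgroup.centralizer (d.T0 : Set P)).subgroupOf d.W
  have hcardW : Nat.card d.W = Nat.card C * Fintype.card K ^ 2 := by
    rw [Subgroup.card_eq_card_quotient_mul_card_subgroup C,
      Nat.card_congr (QuotientGroup.quotientKerEquivOfSurjective ψ hψ).toEquiv, mul_comm]
    congr 1
    rw [Nat.card_congr Multiplicative.toAdd, Nat.card_eq_fintype_card]
    simp
  -- the image of `F`
  obtain ⟨t0, ht0, ht0Q⟩ : ∃ t ∈ d.T0, t ∉ pCore 2 P := by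
    by_contra hcon
    push Not at hcon
    exact d.T0_ne (le_antisymm hcon d.Q_le_T0)
  have hρ : ρ ⟨t0, Subgroup.mem_sup_right ht0⟩ ≠ 1 := fun h => ht0Q ((hk _).1 h)
  have hF : Nat.card (F.map ψ) ≤ Fintype.card K := by
    refine le_trans ?_ (card_fixed_le _ hρ)
    refine Nat.card_le_card_of_injective
      (fun y : F.map ψ => (⟨Multiplicative.toAdd (y : Multiplicative (Fin 2 → K)), ?_⟩ :
        {v : Fin 2 → K // ((ρ ⟨t0, Subgroup.mem_sup_right ht0⟩ : Matrix.SpecialLinearGroup (Fin 2) K) :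
          Matrix (Fin 2) (Fin 2) K).mulVec v = v})) ?_
    · obtain ⟨w, hw, hy⟩ := y.2
      rw [← hy]
      have h1 := (Subgroup.mem_centralizer_iff.1 (Subgroup.mem_subgroupOf.1 hw)) t0 ht0
      refine (heq ⟨t0, Subgroup.mem_sup_right ht0⟩ w w ?_).symm
      rw [h1]
      group
    · intro a b h
      apply Subtype.ext
      have h' := Subtype.ext_iff.1 h
      exact Multiplicative.toAdd.injective h'
  have hcardF : Nat.card F ≤ Nat.card (F ⊓ C : Subgroup d.W) * Fintype.card K := by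
    let f : F →* Multiplicative (Fin 2 → K) := ψ.comp F.subtype
    have h1 : Nat.card F = Nat.card f.range * Nat.card f.ker := by
      rw [← Nat.card_congr (QuotientGroup.quotientKerEquivRange f).toEquiv]
      exact (Subgroup.card_eq_card_quotient_mul_card_subgroup _)
    have h2 : f.range = F.map ψ := by
      rw [MonoidHom.range_comp, Subgroup.range_subtype]
    have h3 : Nat.card f.ker = Nat.card (F ⊓ C : Subgroup d.W) := by
      have h4 : f.ker = C.subgroupOf F := by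
        ext y
        rfl
      rw [h4, ← Subgroup.inf_subgroupOf_left, Nat.card_congr (Subgroup.subgroupOfEquivOfLe inf_le_left).toEquiv]
    rw [h1, h2, h3, mul_comm]
    exact Nat.mul_le_mul_left _ hF
  -- `W ∩ Z ≤ F`
  have hWZ : Nat.card (d.W ⊓ ZZ T ξ : Subgroup P) ≤ Nat.card F := by
    have h1 : (d.W ⊓ ZZ T ξ : Subgroup P) ≤ F.map d.W.subtype := by
      rintro z ⟨hz1, hz2⟩
      refine ⟨⟨z, hz1⟩, ?_, rfl⟩
      show (⟨z, hz1⟩ : d.W) ∈ F
      rw [Subgroup.mem_subgroupOf, Subgroup.mem_centralizer_iff]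
      exact fun a ha => ZZ_cent sw hz2 ha
    refine (Subgroup.card_le_of_le h1).trans ?_
    rw [← Nat.card_congr (F.equivMapOfInjective _ d.W.subtype_injective).toEquiv]
  have hsup : (ZZ T ξ ⊔ d.W : Subgroup P) ≤ pCore 2 P := sup_le (ZZ_le T ξ) d.W_le
  have hc1 := card_sup_mul_inf (H := ZZ T ξ) hWn
  have hc2 : Nat.card (ZZ T ξ ⊔ d.W : Subgroup P) ≤ Nat.card (pCore 2 P) := Subgroup.card_le_of_le hsup
  have hc3 : Nat.card (F ⊓ C : Subgroup d.W) ≤ Nat.card C := Subgroup.card_le_of_le inf_le_right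
  have hZpos : 0 < Nat.card (ZZ T ξ) := Nat.card_pos
  rw [inf_comm] at hc1
  -- the chain of inequalities
  set q := Fintype.card K with hq
  set a := Nat.card (d.W ⊓ ZZ T ξ : Subgroup P) with ha
  set z := Nat.card (ZZ T ξ) with hz
  set w := Nat.card d.W with hw
  set s := Nat.card (ZZ T ξ ⊔ d.W : Subgroup P) with hs
  set c := Nat.card C with hc
  set c' := Nat.card (F ⊓ C : Subgroup d.W) with hc'
  set f := Nat.card F with hf
  have hapos : 0 < a := Nat.card_pos
  have h1 : z * w ≤ q * z * a := by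
    rw [← hc1]
    exact Nat.mul_le_mul_right _ (by rw [← hZ]; exact hc2)
  have h2 : w ≤ q * a := by
    have : z * w ≤ z * (q * a) := by rw [show z * (q * a) = q * z * a by ring]; exact h1
    exact Nat.le_of_mul_le_mul_left this hZpos
  have h3 : w ≤ q * f := h2.trans (Nat.mul_le_mul_left _ hWZ)
  have h4 : q * f ≤ q * (c' * q) := Nat.mul_le_mul_left _ hcardF
  have h5 : q * (c' * q) ≤ w := by
    rw [hcardW, show q * (c' * q) = c' * q ^ 2 by ring]
    exact Nat.mul_le_mul_right _ hc3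
  have h6 : c = c' := by
    have h7 : c * q ^ 2 ≤ c' * q ^ 2 := by
      rw [← hcardW, show c' * q ^ 2 = q * (c' * q) by ring]
      exact h3.trans h4
    exact le_antisymm (Nat.le_of_mul_le_mul_right h7 (by positivity)) hc3
  have h8 : w = q * a := by
    refine le_antisymm h2 ?_
    exact (Nat.mul_le_mul_left _ hWZ).trans (h4.trans h5)
  constructor
  · rw [sup_comm]
    apply Subgroup.eq_of_le_of_card_ge hsup
    have h9 : s * a = q * z * a := by rw [hc1, h8]; ring
    have h10 : s = q * z := Nat.eq_of_mul_eq_mul_right hapos h9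
    rw [← hs, h10, hZ]
  · intro x hx hxC t ht
    have h9 : (F ⊓ C : Subgroup d.W) = C := Subgroup.eq_of_le_of_card_ge inf_le_right (by rw [← hc, ← hc', h6])
    have h10 : (⟨x, hx⟩ : d.W) ∈ C := (MonoidHom.mem_ker).2 ((hψk _).2 hxC)
    rw [← h9] at h10
    exact (Subgroup.mem_centralizer_iff.1 (Subgroup.mem_subgroupOf.1 h10.1)) t ht

end WZ

/-! #### averaging -/

/-- Averaging: `Q` abelian normal of exponent 2, `T₀ ≤ L` of odd index, `z ∈ Q` centralized by `T₀`, and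
`[L, z] ≤ W ≤ Q`, `W` normal. Then `z = w y` with `w ∈ W` and `y ∈ C_Q(L)`. -/
theorem average [Finite P] {Q W L T0 : Subgroup P} (hQ : Q.Normal) (hcomm : ∀ a ∈ Q, ∀ b ∈ Q, a * b = b * a)
    (hsq : ∀ a ∈ Q, a ^ 2 = 1) (hi : ¬ 2 ∣ T0.relIndex L) {z : P} (hz : z ∈ Q)
    (hzT : ∀ a ∈ T0, a * z = z * a) (hzL : ∀ l ∈ L, ⁅l, z⁆ ∈ W) :
    ∃ w ∈ W, ∃ y ∈ Q, (∀ l ∈ L, l * y = y * l) ∧ z = w * y := by
  classical
  let _ : CommGroup Q := { (inferInstance : Group Q) with
    mul_comm := fun a b => Subtype.ext (hcomm a a.2 b b.2) }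
  let T1 : Subgroup L := T0.subgroupOf L
  have : Finite (L ⧸ T1) := inferInstance
  have := Fintype.ofFinite (L ⧸ T1)
  let f : P → Q := fun l => ⟨l * z * l⁻¹, hQ.conj_mem z hz l⟩
  have hf : ∀ l a : P, a ∈ T0 → f (l * a) = f l := by
    intro l a ha
    apply Subtype.ext
    show l * a * z * (l * a)⁻¹ = l * z * l⁻¹
    rw [mul_assoc l a z, hzT a ha]
    group
  let F : L ⧸ T1 → Q := fun c => f (Quotient.out c : L)
  have hF : ∀ l : L, F (QuotientGroup.mk l) = f l := by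
    intro l
    have h1 : (QuotientGroup.mk (Quotient.out (QuotientGroup.mk l : L ⧸ T1)) : L ⧸ T1) = QuotientGroup.mk l :=
      Quotient.out_eq _
    have h2 := QuotientGroup.eq.1 h1.symm
    have h3 : ((Quotient.out (QuotientGroup.mk l : L ⧸ T1) : L) : P) =
        (l : P) * ((l⁻¹ * Quotient.out (QuotientGroup.mk l : L ⧸ T1) : L) : P) := by
      push_cast
      group
    show f ((Quotient.out (QuotientGroup.mk l : L ⧸ T1) : L) : P) = f l
    rw [h3]
    exact hf _ _ (Subgroup.mem_subgroupOf.1 h2)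
  let N : Q := ∏ c : L ⧸ T1, F c
  -- conjugation by `l` fixes `N`
  have hN : ∀ l : L, (l : P) * (N : P) * (l : P)⁻¹ = N := by
    intro l
    let φ : Q →* Q := (MulAut.conjNormal (l : P) : MulAut Q).toMonoidHom
    have h1 : φ N = ∏ c : L ⧸ T1, F (l • c) := by
      rw [map_prod]
      refine Finset.prod_congr rfl fun c _ => ?_
      induction c using QuotientGroup.induction_on with
      | H a =>
        have e : l • (QuotientGroup.mk a : L ⧸ T1) = QuotientGroup.mk (l * a) := rfl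
        rw [e, hF, hF]
        apply Subtype.ext
        show (l : P) * ((a : P) * z * (a : P)⁻¹) * (l : P)⁻¹ = ((l * a : L) : P) * z * ((l * a : L) : P)⁻¹
        push_cast
        group
    have h2 : (∏ c : L ⧸ T1, F (l • c)) = N := Equiv.prod_comp (MulAction.toPerm l) F
    rw [h2] at h1
    exact congrArg Subtype.val h1
  -- `N = w z`
  have hodd : ¬ 2 ∣ Fintype.card (L ⧸ T1) := by
    rw [← Nat.card_eq_fintype_card]
    exact hi
  have hW : ∀ c : L ⧸ T1, F c * (⟨z, hz⟩ : Q)⁻¹ ∈ W.subgroupOf Q := by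
    intro c
    induction c using QuotientGroup.induction_on with
    | H a =>
      rw [hF]
      exact hzL a a.2
  have h1 : N = (∏ c : L ⧸ T1, F c * (⟨z, hz⟩ : Q)⁻¹) * (⟨z, hz⟩ : Q) ^ Fintype.card (L ⧸ T1) := by
    rw [Finset.prod_mul_distrib, Finset.prod_const, Finset.card_univ, inv_pow, inv_mul_cancel_right]
  have h2 : (⟨z, hz⟩ : Q) ^ Fintype.card (L ⧸ T1) = ⟨z, hz⟩ := by
    obtain ⟨m, hm⟩ : ∃ m, Fintype.card (L ⧸ T1) = 2 * m + 1 := by
      rcases Nat.even_or_odd' (Fintype.card (L ⧸ T1)) with ⟨m, hm | hm⟩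
      · exact absurd ⟨m, hm⟩ hodd
      · exact ⟨m, hm⟩
    rw [hm, pow_succ, pow_mul, show (⟨z, hz⟩ : Q) ^ 2 = 1 from Subtype.ext (hsq z hz), one_pow, one_mul]
  have h3 : (∏ c : L ⧸ T1, F c * (⟨z, hz⟩ : Q)⁻¹) ∈ W.subgroupOf Q := Subgroup.prod_mem _ fun c _ => hW c
  refine ⟨((∏ c : L ⧸ T1, F c * (⟨z, hz⟩ : Q)⁻¹)⁻¹ : Q), ?_, N, N.2, ?_, ?_⟩
  · exact Subgroup.mem_subgroupOf.1 (inv_mem h3)
  · intro l hl
    have := hN ⟨l, hl⟩
    exact mul_inv_eq_iff_eq_mul.1 this
  · rw [h1, h2]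
    push_cast
    group

/-! #### the extension of `ψ` to `Q` -/

/-- the result of the analysis on the group side -/
theorem grp_main [Finite P] {T : Subgroup P} (hT : ∃ R : Sylow 2 P, (R : Subgroup P) = T) {ξ : MulAut T}
    {d : BD T} (sw : Swap T ξ d) (hl : LinOne P d.W d.T0 d.q) :
    ∃ (K : Type) (_ : Field K) (_ : Fintype K) (n : ℕ), 1 ≤ n ∧ Fintype.card K = 2 ^ n ∧
      Nat.card d.T0 = Nat.card (pCore 2 P) * Fintype.card K ∧
      ∃ (ρ : ↥(LL d.T0) →* Matrix.SpecialLinearGroup (Fin 2) K)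
        (Ψ : ↥(pCore 2 P) →* Multiplicative (Fin 2 → K)),
        Function.Surjective ρ ∧ (∀ g, ρ g = 1 ↔ (g : P) ∈ pCore 2 P) ∧ Function.Surjective Ψ ∧
        (∀ v : pCore 2 P, Ψ v = 1 ↔ ∀ l ∈ LL d.T0, l * (v : P) = v * l) ∧
        ∀ (l : ↥(LL d.T0)) (v v' : ↥(pCore 2 P)), (v' : P) = (l : P) * (v : P) * (l : P)⁻¹ →
          Multiplicative.toAdd (Ψ v') =
            ((ρ l : Matrix.SpecialLinearGroup (Fin 2) K) : Matrix (Fin 2) (Fin 2) K).mulVec
              (Multiplicative.toAdd (Ψ v)) := by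
  classical
  have hf : Fact (Nat.Prime 2) := ⟨Nat.prime_two⟩
  obtain ⟨K, iK, iF, n, hn, hK, -, ρ, ψ, hρs, hρk, hψs, hψk, heq⟩ := hl
  have hch : CharP K 2 := by
    have h0 : ringChar K ∣ Fintype.card K :=
      (CharP.cast_eq_zero_iff K (ringChar K) _).1 (Nat.cast_card_eq_zero K)
    have hp : (ringChar K).Prime := CharP.char_is_prime K _
    rw [hK] at h0
    have h1 := (Nat.prime_dvd_prime_iff_eq hp Nat.prime_two).1 (hp.dvd_of_dvd_pow h0)
    exact ringChar.eq_iff.1 h1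
  have hT0 := card_T0 hT sw hρs hρk
  obtain ⟨hWZ, hCT⟩ := count sw hT0 hρk hψs hψk heq
  have hQn : (pCore 2 P).Normal := core_normal
  have hWn : d.W.Normal := d.W_normal
  have hRn : (pResidual 2 P).Normal := Transfer.Residual.pResidual_normal 2
  -- the index of `T₀` in `L`
  have hidx : ¬ 2 ∣ d.T0.relIndex (LL d.T0) := by
    have h1 := not_dvd_relIndex hT (L_normal hT sw)
    have h2 : T ⊓ LL d.T0 = d.T0 := le_antisymm (inf_le_T0 hT sw hρs hρk) (le_inf d.T0_le le_sup_right)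
    rwa [h2] at h1
  -- `[L, z] ≤ W` for `z ∈ Z`
  have hLz : ∀ z ∈ ZZ T ξ, ∀ l ∈ LL d.T0, ⁅l, z⁆ ∈ d.W := by
    intro z hz l hl
    rw [Subgroup.mem_sup_of_normal_left] at hl
    obtain ⟨r, hr, b, hb, rfl⟩ := hl
    have hzQ := ZZ_le T ξ hz
    have hb' := ZZ_cent sw hz hb
    have e : ⁅r * b, z⁆ = ⁅r, z⁆ := by
      have h3 : b * z * b⁻¹ = z := by rw [hb']; group
      rw [commutatorElement_def, commutatorElement_def]
      calc r * b * z * (r * b)⁻¹ * z⁻¹ = r * (b * z * b⁻¹) * r⁻¹ * z⁻¹ := by group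
        _ = r * z * r⁻¹ * z⁻¹ := by rw [h3]
    rw [e]
    have h4 : ⁅z, r⁆ ∈ d.W := d.QK (Subgroup.commutator_mem_commutator hzQ hr)
    rw [← commutatorElement_inv]
    exact inv_mem h4
  -- every element of `Q` is a product
  have hdec : ∀ v ∈ pCore 2 P, ∃ w ∈ d.W, ∃ y ∈ pCore 2 P, (∀ l ∈ LL d.T0, l * y = y * l) ∧ v = w * y := by
    intro v hv
    rw [← hWZ, Subgroup.mem_sup_of_normal_left] at hv
    obtain ⟨w, hw, z, hz, rfl⟩ := hv
    obtain ⟨w', hw', y, hy, hyL, e⟩ := average (W := d.W) hQn sw.comm sw.sq hidx (ZZ_le T ξ hz)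
      (fun a ha => ZZ_cent sw hz ha) (hLz z hz)
    exact ⟨w * w', mul_mem hw hw', y, hy, hyL, by rw [e, mul_assoc]⟩
  choose wf hwf yf hyf hyL hvf using hdec
  -- `ψ` does not depend on the decomposition
  have key : ∀ (w w' : d.W) (y y' : P), (∀ l ∈ LL d.T0, l * y = y * l) → (∀ l ∈ LL d.T0, l * y' = y' * l) →
      (w : P) * y = w' * y' → ψ w = ψ w' := by
    intro w w' y y' hy hy' h
    have h1 : ψ (w'⁻¹ * w) = 1 := by
      rw [hψk, Subgroup.mem_centralizer_iff]
      intro r hr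
      have h2 : ((w'⁻¹ * w : d.W) : P) = y' * y⁻¹ := by
        push_cast
        rw [eq_mul_inv_iff_mul_eq, mul_assoc, h, inv_mul_cancel_left]
      rw [h2]
      have hr' : r ∈ LL d.T0 := Subgroup.mem_sup_left hr
      have h3 : r * y⁻¹ = y⁻¹ * r := by
        rw [eq_inv_mul_iff_mul_eq, ← mul_assoc, ← hy r hr', mul_inv_cancel_right]
      rw [← mul_assoc, hy' r hr', mul_assoc, h3, mul_assoc]
    rw [map_mul, map_inv] at h1
    exact (inv_mul_eq_one.1 h1).symm
  let g : pCore 2 P → Multiplicative (Fin 2 → K) := fun v => ψ ⟨wf v v.2, hwf v v.2⟩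
  have hg : ∀ (v : pCore 2 P) (w : d.W) (y : P), (∀ l ∈ LL d.T0, l * y = y * l) → (v : P) = w * y →
      g v = ψ w := by
    intro v w y hy h
    exact key _ _ (yf v v.2) y (hyL v v.2) hy (by rw [← h]; exact (hvf v v.2).symm)
  let Ψ : pCore 2 P →* Multiplicative (Fin 2 → K) := MonoidHom.mk' g (by
    intro a b
    have h1 : ((a * b : pCore 2 P) : P) =
        ((⟨wf a a.2, hwf a a.2⟩ * ⟨wf b b.2, hwf b b.2⟩ : d.W) : P) * (yf a a.2 * yf b b.2) := by
      push_cast
      conv_lhs => rw [hvf a a.2, hvf b b.2]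
      rw [mul_assoc, ← mul_assoc (yf a a.2), sw.comm _ (hyf a a.2) _ (d.W_le (hwf b b.2))]
      simp only [mul_assoc]
    rw [hg (a * b) _ _ ?_ h1, map_mul]
    intro l hl
    rw [← mul_assoc, hyL a a.2 l hl, mul_assoc, hyL b b.2 l hl, mul_assoc])
  have hΨ : ∀ v, Ψ v = g v := fun _ => rfl
  refine ⟨K, iK, iF, n, hn, hK, hT0, ρ, Ψ, hρs, hρk, ?_, ?_, ?_⟩
  · intro y
    obtain ⟨w, rfl⟩ := hψs y
    refine ⟨⟨w, d.W_le w.2⟩, ?_⟩
    rw [hΨ]
    exact hg _ w 1 (fun l _ => by rw [mul_one, one_mul]) (by rw [mul_one])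
  · intro v
    rw [hΨ]
    show ψ ⟨wf v v.2, hwf v v.2⟩ = 1 ↔ _
    rw [hψk]
    constructor
    · intro h l hl
      have hw : ∀ l ∈ LL d.T0, l * wf v v.2 = wf v v.2 * l := by
        intro l hl
        have h1 : LL d.T0 ≤ Subgroup.centralizer {wf v v.2} := by
          refine sup_le ?_ ?_
          · intro r hr
            rw [Subgroup.mem_centralizer_singleton_iff]
            exact (Subgroup.mem_centralizer_iff.1 h) r hr
          · intro a ha
            rw [Subgroup.mem_centralizer_singleton_iff]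
            exact hCT _ (hwf v v.2) h a ha
        exact Subgroup.mem_centralizer_singleton_iff.1 (h1 hl)
      rw [hvf v v.2, ← mul_assoc, hw l hl, mul_assoc, hyL v v.2 l hl, mul_assoc]
    · intro h
      rw [Subgroup.mem_centralizer_iff]
      intro r hr
      have hr' : r ∈ LL d.T0 := Subgroup.mem_sup_left hr
      have h1 : wf v v.2 = v * (yf v v.2)⁻¹ := by
        rw [eq_mul_inv_iff_mul_eq]
        exact (hvf v v.2).symm
      have h3 : r * (yf v v.2)⁻¹ = (yf v v.2)⁻¹ * r := by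
        rw [eq_inv_mul_iff_mul_eq, ← mul_assoc, ← hyL v v.2 r hr', mul_inv_cancel_right]
      show r * wf v v.2 = wf v v.2 * r
      rw [h1, ← mul_assoc, h r hr', mul_assoc, h3, mul_assoc]
  · intro l v v' h
    rw [hΨ, hΨ]
    have hw' : (l : P) * wf v v.2 * (l : P)⁻¹ ∈ d.W := hWn.conj_mem _ (hwf v v.2) _
    have h1 : (v' : P) = ((⟨(l : P) * wf v v.2 * (l : P)⁻¹, hw'⟩ : d.W) : P) * yf v v.2 := by
      rw [h]
      conv_lhs => rw [hvf v v.2]
      have h2 := hyL v v.2 l l.2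
      show (l : P) * (wf v v.2 * yf v v.2) * (l : P)⁻¹ = (l : P) * wf v v.2 * (l : P)⁻¹ * yf v v.2
      have h3 : yf v v.2 * (l : P)⁻¹ = (l : P)⁻¹ * yf v v.2 := by
        rw [eq_inv_mul_iff_mul_eq, ← mul_assoc, h2, mul_inv_cancel_right]
      rw [mul_assoc, mul_assoc, h3]
      group
    rw [hg v' _ _ (hyL v v.2) h1]
    exact heq l ⟨wf v v.2, hwf v v.2⟩ _ rfl

end Grp

end Cfsg.Agent.H667.HM
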